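import Mathlib

set_option autoImplicit false
universe u

namespace Groth.Agent.Lib.Helper5.HilbOpen

/-- a finite dimensional commutative algebra over a field has at most as many primes as its
dimension. -/
theorem le_finrank_of_injective_primes (k A : Type*) [Field k] [CommRing A] [Algebra k A]
    [Module.Finite k A] {n : ℕ} (P : Fin n → PrimeSpectrum A) (hP : Function.Injective P) :
    n ≤ Module.finrank k A := by
  haveI : IsArtinianRing A := IsArtinianRing.of_finite k A
  let I : Fin n → Ideal A := fun j => (P j).asIdeal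
  haveI hprime : ∀ j, (I j).IsPrime := fun j => (P j).isPrime
  have hmax : ∀ j, (I j).IsMaximal := fun j => IsArtinianRing.isMaximal_of_isPrime (I j)
  have hcop : Pairwise (Function.onFun IsCoprime I) := by
    intro j l hjl
    change IsCoprime (I j) (I l)
    rw [Ideal.isCoprime_iff_sup_eq]
    apply Ideal.IsMaximal.coprime_of_ne (hmax j) (hmax l)
    intro h
    apply hjl
    apply hP
    exact PrimeSpectrum.ext h
  have hsurj := Ideal.quotientInfToPiQuotient_surj hcop
  let L : A →ₗ[k] (∀ j, A ⧸ I j) :=
    LinearMap.pi (fun j => (Ideal.Quotient.mkₐ k (I j)).toLinearMap)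
  have hL : Function.Surjective L := by
    intro y
    obtain ⟨xb, hxb⟩ := hsurj y
    obtain ⟨x, rfl⟩ := Ideal.Quotient.mk_surjective xb
    refine ⟨x, ?_⟩
    rw [← hxb]
    rfl
  have h1 := LinearMap.finrank_le_finrank_of_surjective hL
  rw [Module.finrank_pi_fintype] at h1
  have h2 : ∀ j, 1 ≤ Module.finrank k (A ⧸ I j) := by
    intro j
    haveI : Nontrivial (A ⧸ I j) := Ideal.Quotient.nontrivial_iff.2 (hprime j).ne_top
    exact Module.finrank_pos
  calc n = ∑ _j : Fin n, 1 := by simp
    _ ≤ ∑ j : Fin n, Module.finrank k (A ⧸ I j) := Finset.sum_le_sum fun j _ => h2 j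
    _ ≤ Module.finrank k A := h1

end Groth.Agent.Lib.Helper5.HilbOpen
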