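import Groth.Agent.Lib.Helper5.HilbOpen.CardA

set_option backward.isDefEq.respectTransparency.types false
set_option synthInstance.maxHeartbeats 400000
set_option autoImplicit false
universe u
open CategoryTheory CategoryTheory.Limits AlgebraicGeometry Opposite

namespace Groth.Agent.Lib.Helper5.HilbOpen

/-- the number of points of a finite scheme over a field is at most its degree. -/
theorem le_finrank_SpecMap_field {K : Type u} [Field K] {A : CommRingCat.{u}}
    (φ : CommRingCat.of K ⟶ A)
    (hfin : φ.hom.Finite) (pt : Spec (CommRingCat.of K)) {n : ℕ} (P : Fin n → Spec A)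
    (hP : Function.Injective P) : n ≤ (Spec.map φ).finrank pt := by
  letI : Algebra K A := φ.hom.toAlgebra
  haveI : Module.Finite K A := hfin
  have hflat : φ.hom.Flat := by
    change Module.Flat K A
    infer_instance
  rw [Scheme.Hom.finrank_SpecMap_eq_finrank hfin hflat]
  change n ≤ Module.rankAtStalk (R := K) A pt
  rw [Module.rankAtStalk_eq_finrank_of_free]
  exact le_finrank_of_injective_primes K A P hP

/-- a finite flat morphism has at most as many points in a fibre as its rank there. -/
theorem le_finrank_of_injective_fibre {Z T : Scheme.{u}} (ρ : Z ⟶ T) [IsFinite ρ] [Flat ρ]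
    (x : T) {n : ℕ} (z : Fin n → Z) (hz : Function.Injective z) (hzx : ∀ j, ρ (z j) = x) :
    n ≤ ρ.finrank x := by
  let g := T.fromSpecResidueField x
  let q₂ : pullback ρ g ⟶ Spec (T.residueField x) := pullback.snd ρ g
  haveI : IsFinite q₂ := MorphismProperty.pullback_snd (P := @IsFinite) _ _ inferInstance
  haveI : Flat q₂ := MorphismProperty.pullback_snd (P := @Flat) _ _ inferInstance
  haveI : IsAffine (pullback ρ g) := isAffine_of_isAffineHom q₂
  let pt : Spec (T.residueField x) := default
  have h1 : q₂.finrank pt = ρ.finrank x := by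
    rw [Scheme.Hom.finrank_pullback_snd, Scheme.fromSpecResidueField_apply]
  rw [← h1]
  let φ : T.residueField x ⟶ Γ(pullback ρ g, ⊤) :=
    (Scheme.ΓSpecIso (T.residueField x)).inv ≫ q₂.appTop
  have h2 : q₂ = (pullback ρ g).isoSpec.hom ≫ Spec.map φ := by
    have h3 := Scheme.isoSpec_hom_naturality q₂
    rw [Scheme.isoSpec_Spec_hom] at h3
    rw [Spec.map_comp, ← Category.assoc, h3, Category.assoc, ← Spec.map_comp, Iso.inv_hom_id,
      Spec.map_id, Category.comp_id]
  have h4 : Spec.map φ = (pullback ρ g).isoSpec.inv ≫ q₂ := by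
    rw [h2, Iso.inv_hom_id_assoc]
  haveI : IsFinite (Spec.map φ) := by rw [h4]; infer_instance
  haveI : Flat (Spec.map φ) := by rw [h4]; infer_instance
  have hfin : φ.hom.Finite := (IsFinite.SpecMap_iff _).1 inferInstance
  rw [h2, Scheme.Hom.finrank_comp_left_of_isIso]
  let P : Fin n → Spec Γ(pullback ρ g, ⊤) := fun j =>
    (pullback ρ g).isoSpec.hom ((ρ.fiberHomeo x).symm ⟨z j, hzx j⟩)
  have hP : Function.Injective P := by
    intro j l hjl
    have h5 : (ρ.fiberHomeo x).symm ⟨z j, hzx j⟩ = (ρ.fiberHomeo x).symm ⟨z l, hzx l⟩ := by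
      have hinj : Function.Injective (pullback ρ g).isoSpec.hom :=
        (TopCat.homeoOfIso (Scheme.forgetToTop.mapIso (pullback ρ g).isoSpec)).injective
      exact hinj hjl
    have h6 := (ρ.fiberHomeo x).symm.injective h5
    exact hz (congrArg Subtype.val h6)
  exact le_finrank_SpecMap_field (K := T.residueField x) φ hfin pt P hP

end Groth.Agent.Lib.Helper5.HilbOpen
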