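import Groth.Agent.Lib.Helper5.HilbOpen.Ideal
import Groth.Agent.Lib.Helper5.HilbF.Functor

set_option backward.isDefEq.respectTransparency.types false
set_option synthInstance.maxHeartbeats 400000
set_option autoImplicit false
universe u
open CategoryTheory CategoryTheory.Limits AlgebraicGeometry Opposite

namespace Groth.Agent.Lib.Helper5.HilbOpen

open Groth.Agent.Lead.HilbAPI Groth.Agent.Lib.Helper5.HilbF Groth.Agent.Lib.Helper5.LocRepF

variable {X S U V : Scheme.{u}} (f : X ⟶ S) (i : U ⟶ X) (v : V ⟶ S) (f' : U ⟶ V)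
  (w : f' ≫ v = i ≫ f) [IsOpenImmersion i] [IsOpenImmersion v]

section jt
variable {T₀ : Scheme.{u}} (t : T₀ ⟶ S) (t' : T₀ ⟶ V) (ht : t' ≫ v = t)

/-- the open immersion `U ×_V T ⟶ X ×_S T`. -/
noncomputable def jt : PicF.XT f' (Over.mk t') ⟶ PicF.XT f (Over.mk t) :=
  pullback.map f' t' f t i (𝟙 T₀) v w (by rw [ht, Category.id_comp])

instance isOpenImmersion_jt : IsOpenImmersion (jt f i v f' w t t' ht) := by
  unfold jt
  infer_instance

@[reassoc]
theorem jt_fst : jt f i v f' w t t' ht ≫ pullback.fst f t = pullback.fst f' t' ≫ i := by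
  unfold jt
  rw [pullback.lift_fst]

@[reassoc]
theorem jt_snd : jt f i v f' w t t' ht ≫ pullback.snd f t = pullback.snd f' t' := by
  unfold jt
  rw [pullback.lift_snd, Category.comp_id]

theorem range_jt : Set.range (jt f i v f' w t t' ht) = (pullback.fst f t) ⁻¹' Set.range i := by
  unfold jt
  rw [Scheme.Pullback.range_map]
  have : Set.range (𝟙 T₀ : T₀ ⟶ T₀) = Set.univ := by
    rw [Set.range_eq_univ]
    intro y
    exact ⟨y, rfl⟩
  rw [this, Set.preimage_univ, Set.inter_univ]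

end jt

section nat
variable {T₀ T₁ : Scheme.{u}} (t : T₀ ⟶ S) (t' : T₀ ⟶ V) (ht : t' ≫ v = t)
  (t₁ : T₁ ⟶ S) (t₁' : T₁ ⟶ V) (ht₁ : t₁' ≫ v = t₁)
  (m : Over.mk t₁ ⟶ Over.mk t) (m' : Over.mk t₁' ⟶ Over.mk t') (hm : m'.left = m.left)

include hm in
theorem jt_natural : jt f i v f' w t₁ t₁' ht₁ ≫ PicF.XTmap f m =
    PicF.XTmap f' m' ≫ jt f i v f' w t t' ht := by
  have h1 : jt f i v f' w t₁ t₁' ht₁ ≫ pullback.fst f t₁ = pullback.fst f' t₁' ≫ i := jt_fst ..
  have h2 : PicF.XTmap f m ≫ pullback.fst f t = pullback.fst f t₁ := XTmap_fst f m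
  have h3 : PicF.XTmap f' m' ≫ pullback.fst f' t' = pullback.fst f' t₁' := XTmap_fst f' m'
  have h4 : jt f i v f' w t t' ht ≫ pullback.fst f t = pullback.fst f' t' ≫ i := jt_fst ..
  have k1 : jt f i v f' w t₁ t₁' ht₁ ≫ pullback.snd f t₁ = pullback.snd f' t₁' := jt_snd ..
  have k2 : PicF.XTmap f m ≫ pullback.snd f t = pullback.snd f t₁ ≫ m.left := XTmap_snd f m
  have k3 : PicF.XTmap f' m' ≫ pullback.snd f' t' = pullback.snd f' t₁' ≫ m'.left :=
    XTmap_snd f' m'
  have k4 : jt f i v f' w t t' ht ≫ pullback.snd f t = pullback.snd f' t' := jt_snd ..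
  apply pullback.hom_ext
  · show (jt f i v f' w t₁ t₁' ht₁ ≫ PicF.XTmap f m) ≫ pullback.fst f t =
      (PicF.XTmap f' m' ≫ jt f i v f' w t t' ht) ≫ pullback.fst f t
    rw [Category.assoc, h2, h1, Category.assoc, h4, ← Category.assoc, h3]
  · show (jt f i v f' w t₁ t₁' ht₁ ≫ PicF.XTmap f m) ≫ pullback.snd f t =
      (PicF.XTmap f' m' ≫ jt f i v f' w t t' ht) ≫ pullback.snd f t
    rw [Category.assoc, k2, ← Category.assoc, k1, Category.assoc, k4, k3, hm]

end nat

section transfer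
variable {T₀ : Scheme.{u}} (t : T₀ ⟶ S) (t' : T₀ ⟶ V) (ht : t' ≫ v = t) (d : ℕ)

/-- the condition that a family lies in the open chart. -/
def InChart (J : (PicF.XT f (Over.mk t)).IdealSheafData) : Prop :=
  (J.support : Set (PicF.XT f (Over.mk t))) ⊆ (pullback.fst f t) ⁻¹' Set.range i

theorem restr_aux (Z : HilbD.Obj f d (Over.mk t)) (hZ : InChart f i t Z.1) :
    Mor2.IsFinLocFreeOfDeg d ((Z.1.comap (jt f i v f' w t t' ht)).subschemeι ≫
      PicF.XTproj f' (Over.mk t')) := by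
  have hZ' : (Z.1.support : Set (PicF.XT f (Over.mk t))) ⊆ Set.range (jt f i v f' w t t' ht) := by
    rw [range_jt]
    exact hZ
  haveI := isIso_snd_of_support_le (jt f i v f' w t t' ht) Z.1 hZ'
  have k4 : jt f i v f' w t t' ht ≫ pullback.snd f t = pullback.snd f' t' := jt_snd ..
  have e : (Z.1.comap (jt f i v f' w t t' ht)).subschemeι ≫ PicF.XTproj f' (Over.mk t') =
      ((Z.1.comapIso (jt f i v f' w t t' ht)).hom ≫
        pullback.snd (jt f i v f' w t t' ht) Z.1.subschemeι) ≫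
      (Z.1.subschemeι ≫ PicF.XTproj f (Over.mk t)) := by
    change _ ≫ pullback.snd f' t' = _ ≫ (Z.1.subschemeι ≫ pullback.snd f t)
    rw [← k4, ← Category.assoc, ← Scheme.IdealSheafData.comapIso_hom_fst, Category.assoc,
      Category.assoc, Category.assoc, pullback.condition_assoc]
  rw [e]
  exact Groth.Agent.Lead.HilbCI.isFinLocFreeOfDeg_iso_comp _ _ d Z.2

/-- restriction of a family lying in the chart. -/
noncomputable def restrZ (Z : HilbD.Obj f d (Over.mk t)) (hZ : InChart f i t Z.1) :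
    HilbD.Obj f' d (Over.mk t') :=
  ⟨Z.1.comap (jt f i v f' w t t' ht), restr_aux f i v f' w t t' ht d Z hZ⟩

variable [IsSeparated f]

theorem isClosedImmersion_push (Z' : HilbD.Obj f' d (Over.mk t')) :
    IsClosedImmersion (Z'.1.subschemeι ≫ jt f i v f' w t t' ht) := by
  have k4 : jt f i v f' w t t' ht ≫ pullback.snd f t = pullback.snd f' t' := jt_snd ..
  have e : (Z'.1.subschemeι ≫ jt f i v f' w t t' ht) ≫ pullback.snd f t =
      Z'.1.subschemeι ≫ PicF.XTproj f' (Over.mk t') := by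
    rw [Category.assoc, k4]
    rfl
  haveI : IsFinite ((Z'.1.subschemeι ≫ jt f i v f' w t t' ht) ≫ pullback.snd f t) := by
    rw [e]
    exact Z'.2.1.1
  haveI : IsFinite (Z'.1.subschemeι ≫ jt f i v f' w t t' ht) :=
    IsFinite.of_comp _ (pullback.snd f t)
  rw [IsClosedImmersion.iff_isFinite_and_mono]
  exact ⟨inferInstance, inferInstance⟩

theorem push_aux (Z' : HilbD.Obj f' d (Over.mk t')) :
    Mor2.IsFinLocFreeOfDeg d ((Z'.1.map (jt f i v f' w t t' ht)).subschemeι ≫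
      PicF.XTproj f (Over.mk t)) := by
  haveI := isClosedImmersion_push f i v f' w t t' ht d Z'
  have k4 : jt f i v f' w t t' ht ≫ pullback.snd f t = pullback.snd f' t' := jt_snd ..
  let g := Z'.1.subschemeι ≫ jt f i v f' w t t' ht
  haveI : IsClosedImmersion g := isClosedImmersion_push f i v f' w t t' ht d Z'
  haveI : IsIso g.toImage := inferInstance
  have e1 : g.toImage ≫ (Z'.1.map (jt f i v f' w t t' ht)).subschemeι = g := g.toImage_imageι
  have e2 : g.toImage ≫ ((Z'.1.map (jt f i v f' w t t' ht)).subschemeι ≫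
      PicF.XTproj f (Over.mk t)) = Z'.1.subschemeι ≫ PicF.XTproj f' (Over.mk t') := by
    rw [← Category.assoc, e1]
    change (Z'.1.subschemeι ≫ jt f i v f' w t t' ht) ≫ pullback.snd f t = _
    rw [Category.assoc, k4]
    rfl
  have e : (Z'.1.map (jt f i v f' w t t' ht)).subschemeι ≫ PicF.XTproj f (Over.mk t) =
      inv g.toImage ≫ (Z'.1.subschemeι ≫ PicF.XTproj f' (Over.mk t')) := by
    rw [← e2, IsIso.inv_hom_id_assoc]
    rfl
  rw [e]
  exact Groth.Agent.Lead.HilbCI.isFinLocFreeOfDeg_iso_comp (inv g.toImage) _ d Z'.2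

/-- extension of a family on the chart. -/
noncomputable def pushZ (Z' : HilbD.Obj f' d (Over.mk t')) : HilbD.Obj f d (Over.mk t) :=
  ⟨Z'.1.map (jt f i v f' w t t' ht), push_aux f i v f' w t t' ht d Z'⟩

theorem pushZ_comap (Z' : HilbD.Obj f' d (Over.mk t')) :
    (pushZ f i v f' w t t' ht d Z').1.comap (jt f i v f' w t t' ht) = Z'.1 := by
  haveI := isClosedImmersion_push f i v f' w t t' ht d Z'
  exact comap_map_of_quasiCompact _ _

theorem inChart_pushZ (Z' : HilbD.Obj f' d (Over.mk t')) :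
    InChart f i t (pushZ f i v f' w t t' ht d Z').1 := by
  haveI := isClosedImmersion_push f i v f' w t t' ht d Z'
  have := support_map_le (jt f i v f' w t t' ht) Z'.1
  rw [range_jt] at this
  exact this

end transfer

section chart
variable [IsSeparated f] (d : ℕ) {H₀ : Scheme.{u}} (h' : H₀ ⟶ V)
  (Zu : HilbD.Obj f' d (Over.mk h'))

/-- the universal family of the chart, viewed as a family of closed subschemes of `X`. -/
noncomputable def xiC : HilbD.Obj f d (Over.mk (h' ≫ v)) :=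
  pushZ f i v f' w (h' ≫ v) h' rfl d Zu

theorem xiC_comap : (xiC f i v f' w d h' Zu).1.comap (jt f i v f' w (h' ≫ v) h' rfl) = Zu.1 :=
  pushZ_comap f i v f' w (h' ≫ v) h' rfl d Zu

theorem inChart_xiC : InChart f i (h' ≫ v) (xiC f i v f' w d h' Zu).1 :=
  inChart_pushZ f i v f' w (h' ≫ v) h' rfl d Zu

variable {T₀ : Scheme.{u}} (t : T₀ ⟶ S)

theorem inChart_hmap {T₁ : Scheme.{u}} (t₁ : T₁ ⟶ S) (m : Over.mk t₁ ⟶ Over.mk t)
    (Z : HilbD.Obj f d (Over.mk t)) (hZ : InChart f i t Z.1) :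
    InChart f i t₁ (hmap f d m Z).1 := by
  rw [InChart, hmap_val, Scheme.IdealSheafData.support_comap]
  intro p hp
  have h1 : PicF.XTmap f m p ∈ (Z.1.support : Set _) := hp
  have h2 := hZ h1
  have h3 : PicF.XTmap f m ≫ pullback.fst f t = pullback.fst f t₁ := XTmap_fst f m
  rw [Set.mem_preimage, ← Scheme.Hom.comp_apply, h3] at h2
  exact h2

theorem comap_hmap_xiC (t' : T₀ ⟶ V) (ht : t' ≫ v = t) (a : Over.mk t ⟶ Over.mk (h' ≫ v))
    (a' : Over.mk t' ⟶ Over.mk h') (ha : a'.left = a.left) :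
    (hmap f d a (xiC f i v f' w d h' Zu)).1.comap (jt f i v f' w t t' ht) =
      (hmap f' d a' Zu).1 := by
  rw [hmap_val, hmap_val, ← Scheme.IdealSheafData.comap_comp,
    jt_natural f i v f' w (h' ≫ v) h' rfl t t' ht a a' ha, Scheme.IdealSheafData.comap_comp,
    xiC_comap]

variable (hu : HilbD.IsUniversal f' d (Over.mk h') Zu)

include hu in
theorem hmap_xiC_injective (T : Over S) :
    Function.Injective (fun a : T ⟶ Over.mk (h' ≫ v) => (hilbF f d).map a.op
      (xiC f i v f' w d h' Zu)) := by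
  obtain ⟨T₀, ⟨⟨⟩⟩, t⟩ := T
  intro a₁ a₂ h12
  have h12' : hmap f d a₁ (xiC f i v f' w d h' Zu) = hmap f d a₂ (xiC f i v f' w d h' Zu) := h12
  have w₁ : a₁.left ≫ h' ≫ v = t := Over.w a₁
  have w₂ : a₂.left ≫ h' ≫ v = t := Over.w a₂
  have e12 : a₁.left ≫ h' = a₂.left ≫ h' := by
    rw [← cancel_mono v, Category.assoc, Category.assoc, w₁, w₂]
  have ht : (a₁.left ≫ h') ≫ v = t := by rw [Category.assoc, w₁]
  let a₁' : Over.mk (a₁.left ≫ h') ⟶ Over.mk h' := Over.homMk a₁.left rfl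
  let a₂' : Over.mk (a₁.left ≫ h') ⟶ Over.mk h' := Over.homMk a₂.left e12.symm
  have c₁ := comap_hmap_xiC f i v f' w d h' Zu t (a₁.left ≫ h') ht a₁ a₁' rfl
  have c₂ := comap_hmap_xiC f i v f' w d h' Zu t (a₁.left ≫ h') ht a₂ a₂' rfl
  rw [h12', c₂] at c₁
  obtain ⟨g, -, hg⟩ := hu (Over.mk (a₁.left ≫ h')) (hmap f' d a₁' Zu)
  have g₁ : a₁' = g := hg a₁' rfl
  have g₂ : a₂' = g := hg a₂' (by
    change (hmap f' d a₂' Zu).1 = (hmap f' d a₁' Zu).1
    exact c₁)
  have : a₁' = a₂' := g₁.trans g₂.symm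
  apply Over.OverMorphism.ext
  exact congrArg (fun k => k.left) this

include hu in
theorem exists_of_inChart (t' : T₀ ⟶ V) (ht : t' ≫ v = t) (Z : HilbD.Obj f d (Over.mk t))
    (hZ : InChart f i t Z.1) :
    ∃ a : Over.mk t ⟶ Over.mk (h' ≫ v), hmap f d a (xiC f i v f' w d h' Zu) = Z := by
  obtain ⟨a', ha', -⟩ := hu (Over.mk t') (restrZ f i v f' w t t' ht d Z hZ)
  have wa : a'.left ≫ h' = t' := Over.w a'
  let a : Over.mk t ⟶ Over.mk (h' ≫ v) := Over.homMk a'.left (by
    change a'.left ≫ h' ≫ v = t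
    rw [← Category.assoc, wa, ht])
  refine ⟨a, ?_⟩
  apply Subtype.ext
  have hin := inChart_hmap f i d (h' ≫ v) t a (xiC f i v f' w d h' Zu)
    (inChart_xiC f i v f' w d h' Zu)
  have hr : Set.range (jt f i v f' w t t' ht) = (pullback.fst f t) ⁻¹' Set.range i :=
    range_jt f i v f' w t t' ht
  apply comap_injective_of_support_le (jt f i v f' w t t' ht)
  · rw [hr]
    exact hin
  · rw [hr]
    exact hZ
  · rw [comap_hmap_xiC f i v f' w d h' Zu t t' ht a a' rfl, hmap_val, ← pull_eq_comap]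
    exact ha'

theorem range_subset_of_hom (a : Over.mk t ⟶ Over.mk (h' ≫ v)) : Set.range t ⊆ Set.range v := by
  have w₁ : a.left ≫ h' ≫ v = t := Over.w a
  rintro _ ⟨y, rfl⟩
  refine ⟨h' (a.left y), ?_⟩
  exact congrArg (fun k : T₀ ⟶ S => k y) w₁

end chart

end Groth.Agent.Lib.Helper5.HilbOpen
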