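import Groth.Agent.Lib.Helper5.HilbOpen.Locus
import Groth.Agent.Lib.Helper5.HilbOpen.CardB
import Groth.Agent.Lib.Helper5.HilbAff.Rep
import Groth.Agent.Lib.Helper2.FiniteAffine

set_option backward.isDefEq.respectTransparency.types false
set_option synthInstance.maxHeartbeats 400000
set_option autoImplicit false
universe u
open CategoryTheory CategoryTheory.Limits AlgebraicGeometry Opposite

namespace Groth.Agent.Lib.Helper5.HilbOpen

open Groth.Agent.Lead.HilbAPI Groth.Agent.Lib.Helper5.HilbF Groth.Agent.Lib.Helper5.LocRepF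

theorem exists_enum {α : Type*} (s : Finset α) (d : ℕ) (h1 : s.Nonempty) (h2 : s.card ≤ d) :
    ∃ g : Fin d → α, (∀ k, g k ∈ s) ∧ ∀ a ∈ s, ∃ k, g k = a := by
  classical
  obtain ⟨a₀, ha₀⟩ := h1
  let e := s.equivFin
  let g : Fin d → α := fun k =>
    if h : k.1 < s.card then ((e.symm ⟨k.1, h⟩ : s) : α) else a₀
  refine ⟨g, fun k => ?_, fun a ha => ?_⟩
  · by_cases h : k.1 < s.card
    · simp only [g, dif_pos h]
      exact (e.symm ⟨k.1, h⟩).2
    · simp only [g, dif_neg h]
      exact ha₀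
  · let k := e ⟨a, ha⟩
    have hk : k.1 < d := lt_of_lt_of_le k.2 h2
    refine ⟨⟨k.1, hk⟩, ?_⟩
    simp only [g, dif_pos k.2]
    have : (⟨k.1, k.2⟩ : Fin s.card) = k := rfl
    rw [this, Equiv.symm_apply_apply]

theorem card_le_finrank {Z T : Scheme.{u}} (ρ : Z ⟶ T) [IsFinite ρ] [Flat ρ] (x : T)
    (s : Finset Z) (hs : ∀ z ∈ s, ρ z = x) : s.card ≤ ρ.finrank x := by
  apply le_finrank_of_injective_fibre ρ x (fun j : Fin s.card => ((s.equivFin.symm j : s) : Z))
  · intro j l hjl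
    have : (s.equivFin.symm j : s) = s.equivFin.symm l := Subtype.ext hjl
    exact s.equivFin.symm.injective this
  · intro j
    exact hs _ (s.equivFin.symm j).2

theorem exists_univ_mk {U V : Scheme.{u}} (f' : U ⟶ V) (d : ℕ) (hrep : HilbD.Representable f' d) :
    ∃ (H₀ : Scheme.{u}) (h' : H₀ ⟶ V) (Zu : HilbD.Obj f' d (Over.mk h')),
      HilbD.IsUniversal f' d (Over.mk h') Zu := by
  obtain ⟨⟨H₀, ⟨⟨⟩⟩, h'⟩, Z, hZ⟩ := hrep
  exact ⟨H₀, h', Z, hZ⟩

section cover
variable {X S : Scheme.{u}} (f : X ⟶ S) (d : ℕ)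

/-- the index type of the charts. -/
def Idx : Type u := {p : X.affineOpens × S.affineOpens // p.1.1 ≤ f ⁻¹ᵁ p.2.1}

variable {f} in
/-- the open subscheme of `X` of a chart. -/
noncomputable abbrev iP (p : Idx f) : p.1.1.1.toScheme ⟶ X := p.1.1.1.ι
variable {f} in
/-- the open subscheme of `S` of a chart. -/
noncomputable abbrev vP (p : Idx f) : p.1.2.1.toScheme ⟶ S := p.1.2.1.ι
variable {f} in
/-- the restriction of `f` to a chart. -/
noncomputable abbrev fP (p : Idx f) : p.1.1.1.toScheme ⟶ p.1.2.1.toScheme :=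
  f.resLE p.1.2.1 p.1.1.1 p.2

variable {f} in
theorem wP (p : Idx f) : fP p ≫ vP p = iP p ≫ f := Scheme.Hom.resLE_comp_ι ..

instance (p : Idx f) : IsAffine p.1.1.1.toScheme := p.1.1.2
instance (p : Idx f) : IsAffine p.1.2.1.toScheme := p.1.2.2

variable (h : ∀ (s : S) (x : Fin d → X), (∀ k, f.base (x k) = s) →
  ∃ U : X.Opens, IsAffineOpen U ∧ ∀ k, x k ∈ U)

include h in
theorem exists_chart {T₀ : Scheme.{u}} (t : T₀ ⟶ S) (Z : HilbD.Obj f d (Over.mk t)) (x : T₀) :
    ∃ p : Idx f, x ∈ Uloc f (iP p) (vP p) t d Z := by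
  classical
  haveI : IsFinite (rhoZ f t d Z) := Z.2.1.1
  haveI : Flat (rhoZ f t d Z) := Z.2.1.2.1
  have hfin : (rhoZ f t d Z ⁻¹' {x}).Finite := Scheme.Hom.finite_preimage_singleton _ x
  let s : Finset Z.1.subscheme := hfin.toFinset
  have hs : ∀ z, z ∈ s ↔ rhoZ f t d Z z = x := fun z => by
    rw [Set.Finite.mem_toFinset]
    rfl
  have hcard : s.card ≤ d := by
    have h1 := card_le_finrank (rhoZ f t d Z) x s (fun z hz => (hs z).1 hz)
    have h2 : (rhoZ f t d Z).finrank x = d := Z.2.2 x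
    rw [h2] at h1
    exact h1
  -- the points of `X` under the fibre lie over `t x`
  have hfib : ∀ z, rhoZ f t d Z z = x → f (piZ f t d Z z) = t x := by
    intro z hz
    rw [← hz]
    change (Z.1.subschemeι ≫ pullback.fst f t ≫ f) z = (Z.1.subschemeι ≫ pullback.snd f t ≫ t) z
    rw [pullback.condition]
  obtain ⟨V₀, hxV₀, -⟩ := Groth.Agent.Lib.Helper5.HilbAff.exists_affineOpens_mem S (t x) ⊤ trivial
  -- an affine open of `X` inside `f⁻¹ V₀` containing the image of the fibre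
  obtain ⟨U, hU, hUV, hUs⟩ : ∃ U : X.Opens, IsAffineOpen U ∧ U ≤ f ⁻¹ᵁ V₀.1 ∧
      ∀ z ∈ s, piZ f t d Z z ∈ U := by
    by_cases hne : s.Nonempty
    · obtain ⟨g, hg1, hg2⟩ := exists_enum s d hne hcard
      obtain ⟨U₀, hU₀, hU₀g⟩ := h (t x) (fun k => piZ f t d Z (g k))
        (fun k => hfib _ ((hs _).1 (hg1 k)))
      have hU₀s : ∀ z ∈ s, piZ f t d Z z ∈ U₀ := by
        intro z hz
        obtain ⟨k, rfl⟩ := hg2 z hz
        exact hU₀g k
      obtain ⟨c, hc1, hc2⟩ := Groth.Agent.Helper2.FiniteAffine.exists_basicOpen_finset hU₀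
        (f ⁻¹ᵁ V₀.1) (s.image (piZ f t d Z))
        (by
          intro y hy
          obtain ⟨z, hz, rfl⟩ := Finset.mem_image.1 hy
          exact hU₀s z hz)
        (by
          intro y hy
          obtain ⟨z, hz, rfl⟩ := Finset.mem_image.1 hy
          change f (piZ f t d Z z) ∈ V₀.1
          rw [hfib z ((hs z).1 hz)]
          exact hxV₀)
      refine ⟨X.basicOpen c, hU₀.basicOpen c, hc1, fun z hz => ?_⟩
      exact hc2 _ (Finset.mem_image_of_mem _ hz)
    · refine ⟨⊥, isAffineOpen_bot X, bot_le, fun z hz => ?_⟩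
      exact absurd ⟨z, hz⟩ hne
  refine ⟨⟨(⟨U, hU⟩, V₀), hUV⟩, ?_⟩
  rw [mem_Uloc]
  constructor
  · change t x ∈ Set.range V₀.1.ι
    rw [Scheme.Opens.range_ι]
    exact hxV₀
  · intro z hz
    change piZ f t d Z z ∈ Set.range U.ι
    rw [Scheme.Opens.range_ι]
    exact hUs z ((hs z).2 hz)

variable [IsSeparated f]

include h in
/-- the Hilbert functor of points is representable under the (AF) type hypothesis. -/
theorem isRepresentable_of_AF : (hilbF f d).IsRepresentable := by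
  choose H₀ hh Zu hu using fun p : Idx f =>
    exists_univ_mk (fP p) d (Groth.Agent.Lib.Helper5.HilbAff.representable_of_affine (fP p) d)
  exact isRepresentable_of_openCover (F := hilbF f d) (ι := Idx f)
    (fun p => Over.mk (hh p ≫ vP p))
    (fun p => xiC f (iP p) (vP p) (fP p) (wP p) d (hh p) (Zu p))
    (fun p T => hmap_xiC_injective f (iP p) (vP p) (fP p) (wP p) d (hh p) (Zu p) (hu p) T)
    (fun p _ t Z => Uloc f (iP p) (vP p) t d Z)
    (fun p _ t Z _ φ => hU_chart f (iP p) (vP p) (fP p) (wP p) d (hh p) (Zu p) (hu p) t Z φ)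
    (hilbF_isZarSheaf f d)
    (fun _ t Z x => exists_chart f d h t Z x)

include h in
theorem representable_of_AF : HilbD.Representable f d :=
  Groth.Agent.Lib.Helper5.HilbAff.representable_of_isRepresentable f d (isRepresentable_of_AF f d h)

end cover

end Groth.Agent.Lib.Helper5.HilbOpen
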