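import Groth.Agent.Lib.Lead.KerProd1
import Groth.Agent.Lib.Lead.HilbCI1

set_option backward.isDefEq.respectTransparency.types false
set_option synthInstance.maxHeartbeats 400000
set_option autoImplicit false
universe u
open CategoryTheory CategoryTheory.Limits AlgebraicGeometry Opposite

namespace Groth.Agent.Lib.Helper5.HilbOpen

variable {Y Y' : Scheme.{u}} (j : Y' ⟶ Y) [IsOpenImmersion j]

/-- the restriction of a closed subscheme contained in an open subscheme is an isomorphism. -/
theorem isIso_snd_of_support_le (I : Y.IdealSheafData)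
    (h : (I.support : Set Y) ⊆ Set.range j) : IsIso (pullback.snd j I.subschemeι) := by
  rw [isIso_iff_isOpenImmersion_and_surjective]
  refine ⟨inferInstance, ⟨?_⟩⟩
  rw [← Set.range_eq_univ, Scheme.Pullback.range_snd, Set.eq_univ_iff_forall]
  intro z
  apply h
  rw [← I.range_subschemeι]
  exact ⟨z, rfl⟩

/-- an ideal sheaf whose support lies in an open subscheme is the pushforward of its
restriction. -/
theorem map_comap_of_support_le (I : Y.IdealSheafData)
    (h : (I.support : Set Y) ⊆ Set.range j) : (I.comap j).map j = I := by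
  haveI := isIso_snd_of_support_le j I h
  have e : (I.comap j).subschemeι ≫ j =
      ((I.comapIso j).hom ≫ pullback.snd j I.subschemeι) ≫ I.subschemeι := by
    rw [Category.assoc, ← pullback.condition, ← Category.assoc,
      Scheme.IdealSheafData.comapIso_hom_fst]
  rw [Scheme.IdealSheafData.map, e, Scheme.Hom.ker_comp_of_isIso,
    Scheme.IdealSheafData.ker_subschemeι]

theorem comap_injective_of_support_le {I I' : Y.IdealSheafData}
    (h : (I.support : Set Y) ⊆ Set.range j) (h' : (I'.support : Set Y) ⊆ Set.range j)
    (e : I.comap j = I'.comap j) : I = I' := by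
  rw [← map_comap_of_support_le j I h, ← map_comap_of_support_le j I' h', e]

theorem isPullback_id_of_mono {C : Type*} [Category C] {A B D : C} (a : A ⟶ B) (m : B ⟶ D)
    [Mono m] : IsPullback (𝟙 A) a (a ≫ m) m := by
  have h1 : IsPullback (𝟙 A) a a (𝟙 B) := IsPullback.of_horiz_isIso ⟨by simp⟩
  have h2 : IsPullback (𝟙 B) (𝟙 B) m m := (IsKernelPair.id_of_mono m)
  have := h1.paste_vert h2
  simpa using this

/-- the restriction of the pushforward of a closed subscheme of an open subscheme. -/
theorem comap_map_of_quasiCompact (I' : Y'.IdealSheafData) [QuasiCompact (I'.subschemeι ≫ j)] :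
    (I'.map j).comap j = I' := by
  have sq : IsPullback (𝟙 _) I'.subschemeι (I'.subschemeι ≫ j) j :=
    isPullback_id_of_mono I'.subschemeι j
  have := Groth.Agent.Lead.KerProd.ker_of_isPullback_of_flat (I'.subschemeι ≫ j) j
    I'.subschemeι (𝟙 _) sq
  rw [Scheme.IdealSheafData.ker_subschemeι] at this
  exact this.symm

theorem support_map_le (I' : Y'.IdealSheafData) [IsClosedImmersion (I'.subschemeι ≫ j)] :
    ((I'.map j).support : Set Y) ⊆ Set.range j := by
  rw [Scheme.IdealSheafData.map, Scheme.Hom.support_ker]
  have hc : IsClosed (Set.range (I'.subschemeι ≫ j)) :=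
    (I'.subschemeι ≫ j).isClosedEmbedding.isClosed_range
  rw [hc.closure_eq]
  rintro _ ⟨z, rfl⟩
  exact ⟨I'.subschemeι z, rfl⟩

end Groth.Agent.Lib.Helper5.HilbOpen
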