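import Groth.Agent.Lib.Helper5.HilbOpen.Chart

set_option backward.isDefEq.respectTransparency.types false
set_option synthInstance.maxHeartbeats 400000
set_option autoImplicit false
universe u
open CategoryTheory CategoryTheory.Limits AlgebraicGeometry Opposite

namespace Groth.Agent.Lib.Helper5.HilbOpen

open Groth.Agent.Lead.HilbAPI Groth.Agent.Lib.Helper5.HilbF Groth.Agent.Lib.Helper5.LocRepF

variable {X S U V : Scheme.{u}} (f : X ⟶ S) (i : U ⟶ X) (v : V ⟶ S) (f' : U ⟶ V)
  (w : f' ≫ v = i ≫ f) [IsOpenImmersion i] [IsOpenImmersion v]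

section locus
variable {T₀ : Scheme.{u}} (t : T₀ ⟶ S) (d : ℕ) (Z : HilbD.Obj f d (Over.mk t))

/-- the structure map of the family. -/
noncomputable abbrev rhoZ : Z.1.subscheme ⟶ T₀ := Z.1.subschemeι ≫ pullback.snd f t

/-- the map from the family to `X`. -/
noncomputable abbrev piZ : Z.1.subscheme ⟶ X := Z.1.subschemeι ≫ pullback.fst f t

/-- the set of points of the base over which the family lies in the chart. -/
def locSet : Set T₀ :=
  {x | t x ∈ Set.range v ∧ ∀ z : Z.1.subscheme, rhoZ f t d Z z = x → piZ f t d Z z ∈ Set.range i}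

theorem isOpen_locSet : IsOpen (locSet f i v t d Z) := by
  have e : locSet f i v t d Z =
      t ⁻¹' Set.range v ∩ (rhoZ f t d Z '' (piZ f t d Z ⁻¹' Set.range i)ᶜ)ᶜ := by
    ext x
    simp only [locSet, Set.mem_ofPred_eq, Set.mem_inter_iff, Set.mem_preimage, Set.mem_compl_iff,
      Set.mem_image, not_exists, not_and]
    constructor
    · rintro ⟨h1, h2⟩
      refine ⟨h1, fun z hz hzx => hz (h2 z hzx)⟩
    · rintro ⟨h1, h2⟩
      refine ⟨h1, fun z hzx => ?_⟩
      by_contra hz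
      exact h2 z hz hzx
  rw [e]
  apply IsOpen.inter
  · exact v.isOpenEmbedding.isOpen_range.preimage t.continuous
  · rw [isOpen_compl_iff]
    haveI : IsFinite (rhoZ f t d Z) := Z.2.1.1
    apply (rhoZ f t d Z).isClosedMap
    rw [isClosed_compl_iff]
    exact i.isOpenEmbedding.isOpen_range.preimage (piZ f t d Z).continuous

/-- the open locus of the base over which the family lies in the chart. -/
noncomputable def Uloc : T₀.Opens := ⟨locSet f i v t d Z, isOpen_locSet f i v t d Z⟩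

theorem mem_Uloc (x : T₀) : x ∈ Uloc f i v t d Z ↔
    t x ∈ Set.range v ∧ ∀ z : Z.1.subscheme, rhoZ f t d Z z = x → piZ f t d Z z ∈ Set.range i :=
  Iff.rfl

/-- lying in the chart, pointwise. -/
theorem inChart_iff : InChart f i t Z.1 ↔ ∀ z : Z.1.subscheme, piZ f t d Z z ∈ Set.range i := by
  rw [InChart, ← Z.1.range_subschemeι]
  constructor
  · intro h z
    exact h ⟨z, rfl⟩
  · rintro h _ ⟨z, rfl⟩
    exact h z

/-- the pulled back family lies in the chart iff the base maps to the locus. -/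
theorem inChart_hmap_iff {T₁ : Scheme.{u}} (φ : T₁ ⟶ T₀) :
    InChart f i (φ ≫ t) (hmap f d (oHom φ t) Z).1 ↔
      ∀ y : T₁, ∀ z : Z.1.subscheme, rhoZ f t d Z z = φ y → piZ f t d Z z ∈ Set.range i := by
  have h3 : PicF.XTmap f (oHom φ t) ≫ pullback.fst f t = pullback.fst f (φ ≫ t) :=
    XTmap_fst f (oHom φ t)
  have h4 : PicF.XTmap f (oHom φ t) ≫ pullback.snd f t = pullback.snd f (φ ≫ t) ≫ φ :=
    XTmap_snd f (oHom φ t)
  rw [InChart, hmap_val, Scheme.IdealSheafData.support_comap]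
  constructor
  · intro h y z hz
    have sq := isPullback_XTmap f (oHom φ t)
    obtain ⟨p, hp1, hp2⟩ := Scheme.exists_preimage_of_isPullback sq (Z.1.subschemeι z) y hz
    have hp : p ∈ ((Z.1.support.preimage (PicF.XTmap f (oHom φ t)).continuous :
        TopologicalSpace.Closeds _) : Set _) := by
      change PicF.XTmap f (oHom φ t) p ∈ (Z.1.support : Set _)
      rw [← Z.1.range_subschemeι]
      exact ⟨z, hp1.symm⟩
    have h5 := h hp
    rw [Set.mem_preimage, ← h3, Scheme.Hom.comp_apply] at h5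
    have hp1' : PicF.XTmap f (oHom φ t) p = Z.1.subschemeι z := hp1
    rw [hp1'] at h5
    exact h5
  · intro h p hp
    have hp' : PicF.XTmap f (oHom φ t) p ∈ (Z.1.support : Set _) := hp
    rw [← Z.1.range_subschemeι] at hp'
    obtain ⟨z, hz⟩ := hp'
    have h5 := h (pullback.snd f (φ ≫ t) p) z (by
      change pullback.snd f t (Z.1.subschemeι z) = _
      rw [hz, ← Scheme.Hom.comp_apply, h4]
      rfl)
    rw [Set.mem_preimage, ← h3, Scheme.Hom.comp_apply, ← hz]
    exact h5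

end locus

section hU
variable [IsSeparated f] (d : ℕ) {H₀ : Scheme.{u}} (h' : H₀ ⟶ V)
  (Zu : HilbD.Obj f' d (Over.mk h')) (hu : HilbD.IsUniversal f' d (Over.mk h') Zu)
  {T₀ : Scheme.{u}} (t : T₀ ⟶ S) (Z : HilbD.Obj f d (Over.mk t))

include hu in
theorem hU_chart {T₁ : Scheme.{u}} (φ : T₁ ⟶ T₀) :
    Set.range φ ⊆ (Uloc f i v t d Z : Set T₀) ↔
      ∃ a : Over.mk (φ ≫ t) ⟶ Over.mk (h' ≫ v),
        (hilbF f d).map a.op (xiC f i v f' w d h' Zu) = (hilbF f d).map (oHom φ t).op Z := by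
  constructor
  · intro h
    have h1 : ∀ y : T₁, t (φ y) ∈ Set.range v := fun y => (h ⟨y, rfl⟩).1
    have h2 : ∀ y : T₁, ∀ z : Z.1.subscheme, rhoZ f t d Z z = φ y →
        piZ f t d Z z ∈ Set.range i := fun y => (h ⟨y, rfl⟩).2
    have hr : Set.range (φ ≫ t) ⊆ Set.range v := by
      rintro _ ⟨y, rfl⟩
      exact h1 y
    let t' : T₁ ⟶ V := IsOpenImmersion.lift v (φ ≫ t) hr
    have ht : t' ≫ v = φ ≫ t := IsOpenImmersion.lift_fac v (φ ≫ t) hr
    exact exists_of_inChart f i v f' w d h' Zu (φ ≫ t) hu t' ht (hmap f d (oHom φ t) Z)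
      ((inChart_hmap_iff f i t d Z φ).2 h2)
  · rintro ⟨a, ha⟩
    have ha' : hmap f d a (xiC f i v f' w d h' Zu) = hmap f d (oHom φ t) Z := ha
    have hin := inChart_hmap f i d (h' ≫ v) (φ ≫ t) a (xiC f i v f' w d h' Zu)
      (inChart_xiC f i v f' w d h' Zu)
    rw [ha', inChart_hmap_iff] at hin
    have hr := range_subset_of_hom v h' (φ ≫ t) a
    rintro _ ⟨y, rfl⟩
    exact ⟨hr ⟨y, rfl⟩, hin y⟩

end hU

end Groth.Agent.Lib.Helper5.HilbOpen
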